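import Mathlib.CategoryTheory.Abelian.SerreClass.Localization
import Mathlib.CategoryTheory.Localization.Composition
import Mathlib.CategoryTheory.Localization.Adjunction
import Mathlib.CategoryTheory.Adjunction.FullyFaithful
import Mathlib.CategoryTheory.Adjunction.Additive
import Mathlib.Algebra.Homology.DerivedCategory.ExactFunctor
import Mathlib.Algebra.Homology.DerivedCategory.HomologySequence
import Mathlib.CategoryTheory.Triangulated.Subcategory
import Groth.Agent.KInj.Adjunction

/-!
# Derived category of a Serre quotient with a section functor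
-/

set_option backward.isDefEq.respectTransparency false
set_option backward.isDefEq.respectTransparency.types false
set_option linter.style.haveILetI false
set_option linter.unusedSectionVars false
set_option autoImplicit false

universe w w' v v' u u'

open CategoryTheory Limits Pretriangulated HomologicalComplex DerivedCategory
open scoped ZeroObject

namespace Groth.Agent.QuotDer

variable {A : Type u} [Category.{v} A] [Abelian A] [HasDerivedCategory.{w} A]
  {Q' : Type u'} [Category.{v'} Q'] [Abelian Q'] [HasDerivedCategory.{w'} Q']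

theorem isZero_Q_obj_iff (K : CochainComplex A ℤ) :
    IsZero ((Q : _ ⥤ DerivedCategory A).obj K) ↔ ∀ n, K.ExactAt n := by
  haveI : (Q : CochainComplex A ℤ ⥤ DerivedCategory A).PreservesZeroMorphisms := inferInstance
  have hz := (Q : CochainComplex A ℤ ⥤ DerivedCategory A).map_isZero (isZero_zero (CochainComplex A ℤ))
  have h0 : ∀ n, (HomologicalComplex.ExactAt (0 : CochainComplex A ℤ) n) := fun n =>
    ShortComplex.exact_of_isZero_X₂ _ ((HomologicalComplex.eval _ _ n).map_isZero (isZero_zero _))
  constructor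
  · intro h n
    haveI : QuasiIso (0 : K ⟶ 0) :=
      (isIso_Q_map_iff_quasiIso (C := A) (0 : K ⟶ 0)).1 ⟨0, h.eq_of_src _ _, hz.eq_of_src _ _⟩
    exact (quasiIsoAt_iff_exactAt' (0 : K ⟶ 0) n (h0 n)).1 inferInstance
  · intro h
    haveI : QuasiIso (0 : K ⟶ 0) := ⟨fun n => (quasiIsoAt_iff_exactAt' (0 : K ⟶ 0) n (h0 n)).2 (h n)⟩
    exact hz.of_iso (asIso (Q.map (0 : K ⟶ 0)))

variable (P : ObjectProperty A) [P.IsSerreClass] (V : A ⥤ Q') [V.IsLocalization P.isoModSerre]
  [V.Additive] [PreservesFiniteLimits V] [PreservesFiniteColimits V]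

/-- Objects of `D(A)` with all cohomology in `P`. -/
abbrev cohIn : ObjectProperty (DerivedCategory A) :=
  fun X => ∀ n : ℤ, P ((DerivedCategory.homologyFunctor A n).obj X)

theorem isZero_map_Q_iff (K : CochainComplex A ℤ) :
    IsZero (V.mapDerivedCategory.obj (Q.obj K)) ↔ cohIn P (Q.obj K) := by
  refine (Iso.isZero_iff (V.mapDerivedCategoryFactors.app K)).trans ?_
  rw [Functor.comp_obj, isZero_Q_obj_iff]
  refine forall_congr' fun n => ?_
  rw [exactAt_iff_isZero_homology]
  refine (Iso.isZero_iff (ShortComplex.mapHomologyIso (K.sc n) V)).trans ?_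
  rw [ObjectProperty.SerreClassLocalization.isZero_obj_iff V P]
  exact P.prop_iff_of_iso ((homologyFunctorFactors A n).app K).symm

theorem isZero_map_iff (X : DerivedCategory A) :
    IsZero (V.mapDerivedCategory.obj X) ↔ cohIn P X := by
  let e := (Q : _ ⥤ DerivedCategory A).objObjPreimageIso X
  rw [← Iso.isZero_iff (V.mapDerivedCategory.mapIso e), isZero_map_Q_iff P V]
  exact forall_congr' fun n => P.prop_iff_of_iso ((DerivedCategory.homologyFunctor A n).mapIso e)

theorem trW_iff {X Y : DerivedCategory A} (φ : X ⟶ Y) :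
    ObjectProperty.trW (cohIn P) φ ↔ IsIso (V.mapDerivedCategory.map φ) := by
  constructor
  · rintro ⟨Z, g, h, hT, hZ⟩
    exact ((V.mapDerivedCategory.mapTriangle.obj (Triangle.mk φ g h)).isZero₃_iff_isIso₁
      (V.mapDerivedCategory.map_distinguished _ hT)).1 ((isZero_map_iff P V Z).2 hZ)
  · intro hφ
    obtain ⟨Z, g, h, hT⟩ := distinguished_cocone_triangle φ
    exact ⟨Z, g, h, hT, (isZero_map_iff P V Z).1
      (((V.mapDerivedCategory.mapTriangle.obj (Triangle.mk φ g h)).isZero₃_iff_isIso₁
        (V.mapDerivedCategory.map_distinguished _ hT)).2 hφ)⟩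

variable (U : Q' ⥤ A) (adj : U ⊣ V) [IsIso adj.unit]

include adj in
theorem isLocalization :
    V.mapDerivedCategory.IsLocalization (ObjectProperty.trW (cohIn P)) := by
  haveI : U.Additive := adj.left_adjoint_additive
  let c := ComplexShape.up ℤ
  let a := KInj.mapHomologicalComplexAdj adj c
  haveI : ∀ K, IsIso (a.unit.app K) := fun K => by
    have : ∀ i, IsIso ((a.unit.app K).f i) := fun i => inferInstanceAs (IsIso (adj.unit.app (K.X i)))
    exact HomologicalComplex.Hom.isIso_of_components _
  haveI : IsIso a.unit := NatIso.isIso_of_isIso_app _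
  haveI := a.fullyFaithfulLOfIsIsoUnit.full
  haveI := a.fullyFaithfulLOfIsIsoUnit.faithful
  let Vc := V.mapHomologicalComplex c
  haveI : Vc.IsLocalization ((MorphismProperty.isomorphisms _).inverseImage Vc) := a.isLocalization'
  let W₃ : MorphismProperty (CochainComplex A ℤ) := (HomologicalComplex.quasiIso Q' c).inverseImage Vc
  haveI : (Vc ⋙ Q).IsLocalization W₃ := by
    refine Functor.IsLocalization.comp Vc Q ((MorphismProperty.isomorphisms _).inverseImage Vc)
      (HomologicalComplex.quasiIso Q' c) W₃ ?_ ?_ ?_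
    · exact fun X Y f hf => Localization.inverts Q (HomologicalComplex.quasiIso Q' c) _ hf
    · intro X Y f hf
      haveI : IsIso (Vc.map f) := hf
      exact (inferInstance : QuasiIso (Vc.map f))
    · intro X Y f hf
      have hw := a.unit.naturality f
      haveI : QuasiIso f := hf
      have hmem : W₃ ((U.mapHomologicalComplex c).map f) := by
        change QuasiIso (Vc.map ((U.mapHomologicalComplex c).map f))
        rw [show Vc.map ((U.mapHomologicalComplex c).map f) = inv (a.unit.app X) ≫ f ≫ a.unit.app Y from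
          (IsIso.eq_inv_comp _).2 hw.symm]
        infer_instance
      exact ((W₃.map Vc).arrow_mk_iso_iff
        (Arrow.isoMk (asIso (a.unit.app X)) (asIso (a.unit.app Y)) hw.symm)).2
        (W₃.map_mem_map Vc _ hmem)
  haveI : (Q ⋙ V.mapDerivedCategory).IsLocalization W₃ :=
    Functor.IsLocalization.of_iso W₃ V.mapDerivedCategoryFactors.symm
  have hW : ∀ {K L : CochainComplex A ℤ} (f : K ⟶ L),
      W₃ f ↔ IsIso (V.mapDerivedCategory.map (Q.map f)) := fun f => by
    change QuasiIso (Vc.map f) ↔ _
    rw [← isIso_Q_map_iff_quasiIso]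
    exact ((NatIso.isIso_map_iff V.mapDerivedCategoryFactors f).symm)
  refine Functor.IsLocalization.of_comp Q V.mapDerivedCategory (HomologicalComplex.quasiIso A c)
    (ObjectProperty.trW (cohIn P)) W₃ ?_ ?_
  · intro X Y f hf
    haveI : QuasiIso f := hf
    exact (hW f).2 inferInstance
  · refine le_antisymm (fun X Y φ hφ => ?_) ?_
    · obtain ⟨Z, g, h, hT⟩ := distinguished_cocone_triangle φ
      obtain ⟨K, L, f, ⟨e⟩⟩ := (mem_distTriang_iff _).1 hT
      let eA : Arrow.mk φ ≅ Arrow.mk (Q.map f) :=
        Arrow.isoMk (Triangle.π₁.mapIso e) (Triangle.π₂.mapIso e) e.hom.comm₁.symm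
      refine ((W₃.map Q).arrow_mk_iso_iff eA).2 (W₃.map_mem_map Q f ((hW f).2 ?_))
      exact ((MorphismProperty.isomorphisms _).arrow_mk_iso_iff
        (V.mapDerivedCategory.mapArrow.mapIso eA)).1 ((trW_iff P V φ).1 hφ)
    · intro X Y φ hφ
      obtain ⟨K, L, f, hf, ⟨eA⟩⟩ := hφ
      exact (trW_iff P V φ).2 (((MorphismProperty.isomorphisms _).arrow_mk_iso_iff
        (V.mapDerivedCategory.mapArrow.mapIso eA)).1 ((hW f).1 hf))

end Groth.Agent.QuotDer
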